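import Cfsg.Agent.Hughes.Kegel
import Cfsg.Agent.SectionFunctors.Thompson
import Cfsg.Agent.Constrained.MaximalSylow
import Cfsg.Agent.GlaubermanZJ.CenterFunctor

/-!
# The normal complement hypothesis of the splitting argument, from the `ZJ` theorem
-/

set_option autoImplicit false

open Cfsg

namespace CfsgLib.Hughes

universe u

theorem gtHyp : GTHyp.{u} := by
  intro G _ _ q _ hq Q hall
  let C : CfsgLib.GlaubermanZJ.CenterFunctor.{u} q := CfsgLib.GlaubermanZJ.abelianCenter q
  let W : ∀ (X : Type u) [Group X], Subgroup X := fun X _ => C.obj X ⊤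
  have hobj : ∀ (X : Type u) [Group X] [Finite X] (T : Subgroup X),
      inducedFunctor (G := X) W T = C.obj X T := by
    intro X _ _ T
    have hr : (⊤ : Subgroup T).map T.subtype = T := by
      rw [← MonoidHom.range_eq_map, Subgroup.range_subtype]
    show (C.obj T ⊤).map T.subtype = _
    rw [C.obj_map T X T.subtype ⊤ (T.subtype_injective.comp (⊤ : Subgroup T).subtype_injective), hr]
  have hW : IsCharPFunctor.{u} q W := by
    refine ⟨fun X _ _ hX _ => C.obj_ne_bot X ⊤ (hX.to_subgroup ⊤) top_ne_bot, ?_⟩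
    intro X Y _ _ _ hX φ
    haveI : Finite Y := Finite.of_equiv _ φ.toEquiv
    show (C.obj X ⊤).map φ.toMonoidHom = C.obj Y ⊤
    rw [C.obj_map X Y φ.toMonoidHom ⊤ (φ.injective.comp (⊤ : Subgroup X).subtype_injective),
      Subgroup.map_top_of_surjective _ φ.surjective]
  refine CfsgLib.SectionFunctors.hasNormalPComplement_of_normalInMaximalSections W hW _ G rfl ?_ Q ?_
  · intro K R _ hc hnpc T hT
    rw [hobj]
    have hns := (CfsgLib.Constrained.noSL2Section_of_maximal_sylow hq hnpc T hT).2
    have := CfsgLib.GlaubermanZJ.glauberman_zj hq hc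
      (fun P _ hP => CfsgLib.GlaubermanZJ.isPStableOn_of_noSL2Section hns P hP) T
    show (centerThompsonAOf (T : Subgroup (↥K ⧸ R.subgroupOf K))).Normal
    infer_instance
  · rw [hobj]
    by_cases hQ : (Q : Subgroup G) = ⊥
    · refine CfsgLib.Transfer.hasNormalPComplement_of_not_dvd fun hd => ?_
      exact Q.ne_bot_of_dvd_card (hd.trans (Subgroup.card_subgroup_dvd_card _)) hQ
    · refine hall _ (C.obj_ne_bot G _ Q.isPGroup' hQ) (C.obj_le G _) fun φ hφ => ?_
      rw [C.obj_map G G φ.toMonoidHom _ (φ.injective.comp (Q : Subgroup G).subtype_injective), hφ]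

end CfsgLib.Hughes
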