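import Cfsg.Agent.Hughes.Splitting
import Cfsg.Agent.Transfer.NormalPComplement
import Cfsg.Agent.Chars.Apps.Burnside

/-!
# Kegel's theorem on splitting automorphisms and the Hughes subgroup index lemma
-/

set_option autoImplicit false

namespace CfsgLib.Hughes

universe u

/-- The shape of the Thompson / Glauberman–Thompson normal `q`-complement theorems: for odd `q`,
if the normalizers of all nontrivial subgroups of a Sylow subgroup `Q` that are invariant under all
automorphisms fixing `Q` have normal `q`-complements, so does the group. -/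
def GTHyp : Prop :=
  ∀ (G : Type u) [Group G] [Finite G] (q : ℕ) [Fact q.Prime], q ≠ 2 → ∀ Q : Sylow q G,
    (∀ W : Subgroup G, W ≠ ⊥ → W ≤ Q →
      (∀ φ : MulAut G, (Q : Subgroup G).map φ.toMonoidHom = Q → W.map φ.toMonoidHom = W) →
      Cfsg.HasNormalPComplement q (Subgroup.normalizer (W : Set G))) →
    Cfsg.HasNormalPComplement q G

theorem hasNormalPComplement_of_isNilpotent {G : Type u} [Group G] [Finite G] {q : ℕ}
    [Fact q.Prime] (h : Group.IsNilpotent G) : Cfsg.HasNormalPComplement q G := by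
  by_cases hq : q ∣ Nat.card G
  swap
  · exact CfsgLib.Transfer.hasNormalPComplement_of_not_dvd hq
  obtain ⟨e⟩ := ((Group.isNilpotent_of_finite_tfae (G := G)).out 0 4 rfl rfl).mp h
  let q' : (Nat.card G).primeFactors :=
    ⟨q, Nat.mem_primeFactors.mpr ⟨Fact.out, hq, Nat.card_pos.ne'⟩⟩
  let P : Sylow q G := default
  let f : G →* (P : Subgroup G) :=
    { toFun := fun g => e.symm g q' P
      map_one' := by simp
      map_mul' := fun a b => by simp }
  have hf : Function.Surjective f := fun y => by
    classical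
    exact ⟨e (Pi.mulSingle q' (Pi.mulSingle P y)), by simp [f]⟩
  have hidx : f.ker.index = Nat.card (P : Subgroup G) := by
    rw [Subgroup.index_ker, MonoidHom.range_eq_top.mpr hf, Subgroup.card_top]
  refine CfsgLib.Transfer.hasNormalPComplement_iff_exists.mpr ⟨f.ker, inferInstance, ?_, ?_⟩
  · refine CfsgLib.Transfer.coprime_of_not_dvd fun hd => P.not_dvd_index ?_
    have h1 := f.ker.card_mul_index
    rw [hidx, ← (P : Subgroup G).index_mul_card] at h1
    rwa [Nat.eq_of_mul_eq_mul_right Nat.card_pos h1] at hd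
  · obtain ⟨k, hk⟩ := P.2.exists_card_eq
    exact ⟨k, hidx.trans hk⟩

/-- **Kegel**: a finite group with a splitting automorphism of prime order is nilpotent. -/
theorem isNilpotent_of_splits (GT : GTHyp.{u}) {p : ℕ} [Fact p.Prime] (n : ℕ) :
    ∀ (G : Type u) [Group G] [Finite G] (α : MulAut G),
      Nat.card G = n → Splits p α → Group.IsNilpotent G := by
  induction n using Nat.strong_induction_on with
  | _ n IH =>
  intro G _ _ α hn hα
  suffices hs : Group.IsSolvable G by exact isNilpotent_of_isSolvable n G α hn hα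
  by_cases hex : ∃ q : ℕ, q.Prime ∧ q ∣ n ∧ q ≠ p ∧ q ≠ 2
  swap
  · refine CfsgLib.Chars.Apps.isSolvable_of_primeFactors_subset G Nat.prime_two
      (Fact.out : p.Prime) fun r hr hd => ?_
    by_contra hcon
    push_neg at hcon
    exact hex ⟨r, hr, hn ▸ hd, hcon.2, hcon.1⟩
  obtain ⟨q, hq, hqn, hqp, hq2⟩ := hex
  haveI := Fact.mk hq
  obtain ⟨Q⟩ : Nonempty (Sylow q G) := inferInstance
  obtain ⟨g, hg⟩ := exists_twist_fix α Q
  have hβ : Splits p (twist g α) := hα.twist g
  have hproper : ∀ K : Subgroup G, K ≠ ⊤ → K.map (twist g α).toMonoidHom = K →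
      Group.IsNilpotent K := fun K hK hinv => by
    refine IH _ ?_ K _ rfl (hβ.restrict K hinv)
    rw [← hn]
    exact Nat.lt_of_le_of_ne (Nat.le_of_dvd Nat.card_pos (Subgroup.card_subgroup_dvd_card K))
      fun h => hK (Subgroup.eq_top_of_card_eq K h)
  have hquot : ∀ K : Subgroup G, ∀ [K.Normal], K ≠ ⊥ → K.map (twist g α).toMonoidHom = K →
      Group.IsNilpotent (G ⧸ K) := fun K _ hK hinv => by
    refine IH _ ?_ (G ⧸ K) _ rfl (hβ.quotient K hinv)
    have h1 := K.index_mul_card
    rw [← hn, ← h1, Subgroup.index_eq_card]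
    exact lt_mul_of_one_lt_right Nat.card_pos ((Subgroup.one_lt_card_iff_ne_bot K).mpr hK)
  by_cases hall : ∀ W : Subgroup G, W ≠ ⊥ → W ≤ Q →
      (∀ φ : MulAut G, (Q : Subgroup G).map φ.toMonoidHom = Q → W.map φ.toMonoidHom = W) →
      Cfsg.HasNormalPComplement q (Subgroup.normalizer (W : Set G))
  · obtain ⟨N, hN, hNc, k, hk⟩ :=
      CfsgLib.Transfer.hasNormalPComplement_iff_exists.mp (GT G q hq2 Q hall)
    haveI := hN
    have hmem := fun x : G => CfsgLib.Transfer.mem_iff_coprime_of_pPower_index hNc hk x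
    haveI : N.Characteristic := by
      rw [Subgroup.characteristic_iff_map_le]
      rintro φ _ ⟨x, hx, rfl⟩
      exact (hmem _).mpr (by simpa using (hmem x).mp hx)
    have hNtop : N ≠ ⊤ := fun h => by
      rw [h, Subgroup.card_top, hn] at hNc
      exact (hq.coprime_iff_not_dvd.mp hNc.symm) hqn
    haveI : Group.IsNilpotent N := hproper N hNtop (map_eq_of_characteristic _ N)
    haveI : Group.IsNilpotent (G ⧸ N) := IsPGroup.isNilpotent (p := q)
      (IsPGroup.of_card (n := k) (by rw [← Subgroup.index_eq_card, hk]))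
    exact (Group.isSolvable_iff_subgroup_quotient N).mpr ⟨inferInstance, inferInstance⟩
  · push_neg at hall
    obtain ⟨W, hW1, hWQ, hWinv, hWn⟩ := hall
    have hWβ : W.map (twist g α).toMonoidHom = W := hWinv _ hg
    have hNβ : (Subgroup.normalizer (W : Set G)).map (twist g α).toMonoidHom
        = Subgroup.normalizer (W : Set G) := by
      rw [Subgroup.map_normalizer_eq_of_bijective _ (twist g α).bijective, hWβ]
    by_cases htop : Subgroup.normalizer (W : Set G) = ⊤
    · haveI hWnormal : W.Normal := Subgroup.normalizer_eq_top_iff.mp htop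
      haveI : Group.IsNilpotent (G ⧸ W) := hquot W hW1 hWβ
      haveI : Group.IsNilpotent W :=
        IsPGroup.isNilpotent (p := q) (Q.isPGroup'.to_le hWQ)
      exact (Group.isSolvable_iff_subgroup_quotient W).mpr ⟨inferInstance, inferInstance⟩
    · exact absurd (hasNormalPComplement_of_isNilpotent (hproper _ htop hNβ)) hWn

/-- The twisted products of an inner automorphism. -/
theorem tprod_conjNormal {G : Type u} [Group G] {H : Subgroup G} [H.Normal] (g : G) (x : H)
    (k : ℕ) :
    ((tprod (MulAut.conjNormal g : MulAut H) x k : H) : G) * g ^ k = ((x : G) * g) ^ k := by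
  induction k with
  | zero => simp [tprod]
  | succ k ih =>
      rw [tprod, ← map_pow, Subgroup.coe_mul, MulAut.conjNormal_apply, pow_succ ((x : G) * g), ← ih,
        pow_succ]
      group

/-- Conjugation by an element outside a normal subgroup `H` splits on `H` when all elements
outside `H` have order dividing `p`. -/
theorem splits_conjNormal {G : Type u} [Group G] {H : Subgroup G} [H.Normal] {p : ℕ}
    (hout : ∀ x : G, x ∉ H → x ^ p = 1) {g : G} (hg : g ∉ H) :
    Splits p (MulAut.conjNormal g : MulAut H) := by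
  refine ⟨by rw [← map_pow, hout g hg, map_one], fun x => Subtype.ext ?_⟩
  have h := tprod_conjNormal g x p
  rw [hout g hg, mul_one, hout _ (fun hm => hg (by simpa using mul_mem (inv_mem x.2) hm))] at h
  rw [h, Subgroup.coe_one]

/-- If all elements outside a proper nilpotent normal subgroup `H` have order dividing `p`, and
`H` is not a `p`-group, then `H` has index `p`. -/
theorem index_eq_of_isNilpotent {G : Type u} [Group G] [Finite G] {p : ℕ} [Fact p.Prime]
    {H : Subgroup G} [H.Normal] (hH : Group.IsNilpotent H) (hne : H ≠ ⊤)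
    (hout : ∀ x : G, x ∉ H → x ^ p = 1) (hG : ¬ IsPGroup p G) : H.index = p := by
  classical
  have hp : p.Prime := Fact.out
  have hexp : ∀ x : G ⧸ H, x ^ p = 1 := by
    intro x
    induction x using QuotientGroup.induction_on with
    | _ g =>
      by_cases hg : g ∈ H
      · rw [(QuotientGroup.eq_one_iff g).mpr hg, one_pow]
      · rw [← QuotientGroup.mk_pow, hout g hg, QuotientGroup.mk_one]
  have hpg : IsPGroup p (G ⧸ H) := fun x => ⟨1, by rw [pow_one]; exact hexp x⟩
  obtain ⟨k, hk⟩ := hpg.exists_card_eq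
  rw [← Subgroup.index_eq_card] at hk
  have hk0 : k ≠ 0 := fun h => hne (Subgroup.index_eq_one.mp (by rw [hk, h, pow_zero]))
  by_contra hcon
  have hk2 : 2 ≤ k := by
    rcases Nat.lt_or_ge k 2 with h | h
    · exact absurd (show H.index = p by rw [hk, show k = 1 by omega, pow_one]) hcon
    · exact h
  -- a prime divisor `r ≠ p` of `|H|`
  obtain ⟨r, hr, hrH, hrp⟩ : ∃ r : ℕ, r.Prime ∧ r ∣ Nat.card H ∧ r ≠ p := by
    by_contra hc
    push_neg at hc
    apply hG
    refine IsPGroup.of_card (n := (Nat.card H).factorization p + k) ?_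
    rw [← H.card_mul_index, hk, pow_add]
    have h1 := Nat.eq_prime_pow_of_unique_prime_dvd (Nat.card_pos (α := H)).ne'
      (fun {d} hd hdd => hc d hd hdd)
    rw [h1, hp.factorization_pow, Finsupp.single_eq_same]
  haveI := Fact.mk hr
  -- an element `v` of order `r` in the centre of `H`
  obtain ⟨v, hv, hvc⟩ : ∃ v : H, orderOf v = r ∧ v ∈ Subgroup.center H := by
    obtain ⟨R⟩ : Nonempty (Sylow r H) := inferInstance
    haveI hRn : (R : Subgroup H).Normal :=
      ((Group.isNilpotent_of_finite_tfae (G := H)).out 0 3 rfl rfl).mp hH r inferInstance R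
    have hne : (R : Subgroup H) ≠ ⊥ := R.ne_bot_of_dvd_card hrH
    obtain ⟨w, hw, hw1⟩ : ∃ w ∈ (R : Subgroup H) ⊓ Subgroup.center H, w ≠ 1 := by
      by_contra hc
      push_neg at hc
      apply hne
      obtain ⟨n, hn⟩ := hH.nilpotent'
      have hall : ∀ i, ∀ x ∈ (R : Subgroup H), x ∈ Subgroup.upperCentralSeries H i → x = 1 := by
        intro i
        induction i with
        | zero => intro x _ hx; simpa using hx
        | succ i ih =>
            intro x hxR hx
            rw [Subgroup.mem_upperCentralSeries_succ_iff] at hx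
            refine hc x ⟨hxR, Subgroup.mem_center_iff.mpr fun y => ?_⟩
            have h1 := ih _ (mul_mem hxR (hRn.conj_mem _ (inv_mem hxR) y)) (by
              simpa [commutatorElement_def, mul_assoc] using hx y)
            exact (commutatorElement_eq_one_iff_mul_comm.mp
              (by simpa [commutatorElement_def, mul_assoc] using h1)).symm
      exact (Subgroup.eq_bot_iff_forall _).mpr fun x hx => hall n x hx (hn ▸ Subgroup.mem_top x)
    obtain ⟨m, hm⟩ := (IsPGroup.iff_orderOf.mp R.2) ⟨w, hw.1⟩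
    have hm0 : m ≠ 0 := by
      rintro rfl
      rw [pow_zero, Subgroup.orderOf_mk, orderOf_eq_one_iff] at hm
      exact hw1 hm
    refine ⟨w ^ (r ^ (m - 1)), ?_, pow_mem hw.2 _⟩
    rw [Subgroup.orderOf_mk] at hm
    rw [orderOf_pow' _ (pow_ne_zero _ hr.ne_zero), hm,
      Nat.gcd_eq_right (pow_dvd_pow r (Nat.sub_le m 1)), Nat.pow_div (Nat.sub_le m 1) hr.pos,
      show m - (m - 1) = 1 by omega, pow_one]
  -- two elements commuting modulo `H`, independent modulo `H`
  haveI : Nontrivial (G ⧸ H) := Finite.one_lt_card_iff_nontrivial.mp (by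
    rw [← Subgroup.index_eq_card, hk]; exact Nat.one_lt_pow hk0 hp.one_lt)
  haveI := hpg.center_nontrivial
  obtain ⟨⟨zb, hzb⟩, hzb1⟩ := exists_ne (1 : Subgroup.center (G ⧸ H))
  have hzb' : zb ≠ 1 := fun h => hzb1 (Subtype.ext h)
  obtain ⟨gb, hgb⟩ : ∃ gb : G ⧸ H, gb ∉ Subgroup.zpowers zb := by
    by_contra hc
    push_neg at hc
    have h1 : (Subgroup.zpowers zb) = ⊤ := eq_top_iff.mpr fun x _ => hc x
    have h2 : H.index ∣ p := by
      rw [Subgroup.index_eq_card, ← Subgroup.card_top (G := G ⧸ H), ← h1, Nat.card_zpowers]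
      exact orderOf_dvd_of_pow_eq_one (hexp zb)
    rw [hk] at h2
    have := Nat.le_of_dvd hp.pos h2
    have : p ^ 2 ≤ p := le_trans (Nat.pow_le_pow_right hp.pos hk2) this
    nlinarith [hp.one_lt]
  obtain ⟨z, rfl⟩ := QuotientGroup.mk_surjective zb
  obtain ⟨g, rfl⟩ := QuotientGroup.mk_surjective gb
  have hz : z ∉ H := fun h => hzb' ((QuotientGroup.eq_one_iff z).mpr h)
  -- conjugation acts on the centre of `H` through `G ⧸ H`
  let C := Subgroup.center H
  letI : CommGroup C := { (inferInstance : Group C) with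
    mul_comm := fun a b => Subtype.ext (Subgroup.mem_center_iff.mp b.2 a) }
  let act : G → C → C := fun x c =>
    ⟨MulAut.conjNormal x (c : H), Subgroup.mem_center_iff.mpr fun y => by
      obtain ⟨y, rfl⟩ := (MulAut.conjNormal x : MulAut H).surjective y
      rw [← map_mul, ← map_mul, Subgroup.mem_center_iff.mp c.2 y]⟩
  have act_mul : ∀ x c d, act x (c * d) = act x c * act x d := fun x c d =>
    Subtype.ext (map_mul _ _ _)
  have act_one : ∀ x, act x 1 = 1 := fun x => Subtype.ext (map_one _)
  have act_congr : ∀ x y : G, (x : G ⧸ H) = y → ∀ c, act x c = act y c := by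
    intro x y hxy c
    obtain ⟨h, hh, rfl⟩ : ∃ h ∈ H, y = x * h :=
      ⟨x⁻¹ * y, QuotientGroup.eq.mp hxy, by group⟩
    have e : MulAut.conjNormal h (c : H) = c := Subtype.ext (by
      rw [MulAut.conjNormal_apply]
      have := congrArg Subtype.val (Subgroup.mem_center_iff.mp c.2 ⟨h, hh⟩)
      push_cast at this
      rw [this]; group)
    apply Subtype.ext
    simp only [act, map_mul, MulAut.mul_apply, e]
  have act_comp : ∀ x y c, act x (act y c) = act (x * y) c := fun x y c =>
    Subtype.ext (by simp [act, map_mul, MulAut.mul_apply])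
  have key : ∀ x : G, x ∉ H → ∀ c : C, ∏ i ∈ Finset.range p, act (x ^ i) c = 1 := by
    intro x hx c
    have hk' : ∀ n, ((∏ i ∈ Finset.range n, act (x ^ i) c : C) : H)
        = tprod (MulAut.conjNormal x : MulAut H) (c : H) n := by
      intro n
      induction n with
      | zero => simp [tprod]
      | succ n ih =>
          rw [Finset.prod_range_succ, Subgroup.coe_mul, ih, tprod, ← map_pow]
    exact Subtype.ext (by rw [hk', (splits_conjNormal hout hx).2, Subgroup.coe_one])
  let c : C := ⟨v, hvc⟩
  have hcomm : Commute (g : G ⧸ H) (z : G ⧸ H) := Subgroup.mem_center_iff.mp hzb g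
  have hout' : ∀ j : ℕ, g * z ^ j ∉ H := fun j hm => hgb <| by
    have h1 : (g : G ⧸ H) * (z : G ⧸ H) ^ j = 1 := by
      rw [← QuotientGroup.mk_pow, ← QuotientGroup.mk_mul]
      exact (QuotientGroup.eq_one_iff _).mpr hm
    rw [eq_inv_of_mul_eq_one_left h1]
    exact inv_mem (pow_mem (Subgroup.mem_zpowers _) j)
  obtain ⟨m, hm⟩ : ∃ m, p = m + 1 := ⟨p - 1, by have := hp.one_lt; omega⟩
  have hzero : ∏ j ∈ Finset.range p, ∏ i ∈ Finset.range p, act ((g * z ^ j) ^ i) c = 1 :=
    Finset.prod_eq_one fun j _ => key _ (hout' j) c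
  rw [Finset.prod_comm] at hzero
  conv at hzero => lhs; arg 1; rw [hm]
  rw [Finset.prod_range_succ'] at hzero
  have hrest : ∀ i ∈ Finset.range m, ∏ j ∈ Finset.range p, act ((g * z ^ j) ^ (i + 1)) c = 1 := by
    intro i hi
    have hz' : z ^ (i + 1) ∉ H := by
      intro hmem
      apply hzb'
      have h1 : (z : G ⧸ H) ^ (i + 1) = 1 := by
        rw [← QuotientGroup.mk_pow]; exact (QuotientGroup.eq_one_iff _).mpr hmem
      have h3 : ¬ p ∣ i + 1 :=
        Nat.not_dvd_of_pos_of_lt (by omega) (by have := Finset.mem_range.mp hi; omega)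
      exact orderOf_eq_one_iff.mp (Nat.eq_one_of_dvd_coprimes (hp.coprime_iff_not_dvd.mpr h3)
        (orderOf_dvd_of_pow_eq_one (hexp _)) (orderOf_dvd_of_pow_eq_one h1))
    have h4 : ∀ j, act ((g * z ^ j) ^ (i + 1)) c
        = act (g ^ (i + 1)) (act ((z ^ (i + 1)) ^ j) c) := by
      intro j
      rw [act_comp]
      apply act_congr
      simp only [QuotientGroup.mk_mul, QuotientGroup.mk_pow]
      rw [(hcomm.pow_right j).mul_pow, ← pow_mul, ← pow_mul, mul_comm j]
    rw [Finset.prod_congr rfl (fun j _ => h4 j)]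
    exact (map_prod (⟨⟨act (g ^ (i + 1)), act_one _⟩, act_mul _⟩ : C →* C)
      (fun j => act ((z ^ (i + 1)) ^ j) c) _).symm.trans (by rw [key _ hz' c, map_one])
  rw [Finset.prod_eq_one hrest, one_mul] at hzero
  have h1 : ∀ j, act ((g * z ^ j) ^ 0) c = c := fun j => Subtype.ext (by simp [act])
  rw [Finset.prod_congr rfl (fun j _ => h1 j), Finset.prod_const, Finset.card_range] at hzero
  have : r ∣ p := by
    rw [← hv]
    exact orderOf_dvd_of_pow_eq_one (by simpa [c] using congrArg Subtype.val hzero)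
  exact hrp ((Nat.prime_dvd_prime_iff_eq hr hp).mp this)

end CfsgLib.Hughes
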