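import Mathlib

/-!
# Splitting automorphisms

An automorphism `α` with `α ^ p = 1` is splitting when `x * α x * ⋯ * α^(p-1) x = 1` for all `x`.
We prove the coprime action lemma and nilpotency of solvable groups with such an automorphism.
-/

set_option autoImplicit false

namespace CfsgLib.Hughes

open scoped Pointwise

universe u v

variable {G : Type u} [Group G]

/-- The twisted product `x * α x * ⋯ * α^(k-1) x`. -/
def tprod (α : MulAut G) (x : G) : ℕ → G
  | 0 => 1
  | k + 1 => tprod α x k * (α ^ k) x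

theorem list_prod_eq_tprod (α : MulAut G) (x : G) (k : ℕ) :
    ((List.range k).map (fun i : ℕ => (α ^ i) x)).prod = tprod α x k := by
  induction k with
  | zero => simp [tprod]
  | succ k ih => rw [List.range_succ, List.map_append, List.prod_append, ih]; simp [tprod]

/-- `α ^ p = 1` and all twisted products of length `p` are trivial. -/
def Splits (p : ℕ) (α : MulAut G) : Prop :=
  α ^ p = 1 ∧ ∀ x : G, tprod α x p = 1

theorem pow_apply_intertwine {H : Type v} [Group H] (f : G →* H) {α : MulAut G} {β : MulAut H}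
    (h : ∀ x, f (α x) = β (f x)) (k : ℕ) (x : G) : f ((α ^ k) x) = (β ^ k) (f x) := by
  induction k generalizing x with
  | zero => simp
  | succ k ih => rw [pow_succ, pow_succ, MulAut.mul_apply, MulAut.mul_apply, ih, h]

theorem tprod_intertwine {H : Type v} [Group H] (f : G →* H) {α : MulAut G} {β : MulAut H}
    (h : ∀ x, f (α x) = β (f x)) (k : ℕ) (x : G) : f (tprod α x k) = tprod β (f x) k := by
  induction k with
  | zero => simp [tprod]
  | succ k ih => rw [tprod, tprod, map_mul, ih, pow_apply_intertwine f h]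

theorem Splits.of_injective {H : Type v} [Group H] {p : ℕ} (f : G →* H)
    (hf : Function.Injective f) {α : MulAut G} {β : MulAut H} (h : ∀ x, f (α x) = β (f x))
    (hβ : Splits p β) : Splits p α := by
  refine ⟨MulEquiv.ext fun x => hf ?_, fun x => hf ?_⟩
  · rw [pow_apply_intertwine f h, hβ.1, MulAut.one_apply, MulAut.one_apply]
  · rw [tprod_intertwine f h, hβ.2, map_one]

theorem Splits.of_surjective {H : Type v} [Group H] {p : ℕ} (f : G →* H)
    (hf : Function.Surjective f) {α : MulAut G} {β : MulAut H} (h : ∀ x, f (α x) = β (f x))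
    (hα : Splits p α) : Splits p β := by
  refine ⟨MulEquiv.ext fun y => ?_, fun y => ?_⟩
  · obtain ⟨x, rfl⟩ := hf y
    rw [← pow_apply_intertwine f h, hα.1, MulAut.one_apply, MulAut.one_apply]
  · obtain ⟨x, rfl⟩ := hf y
    rw [← tprod_intertwine f h, hα.2, map_one]

/-- `α` followed by conjugation with `h`. -/
def twist (h : G) (α : MulAut G) : MulAut G := MulAut.conj h * α

theorem twist_apply (h : G) (α : MulAut G) (x : G) : twist h α x = h * α x * h⁻¹ := by
  simp [twist]

theorem twist_pow_apply (h : G) (α : MulAut G) (k : ℕ) (x : G) :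
    (twist h α ^ k) x = tprod α h k * (α ^ k) x * (tprod α h k)⁻¹ := by
  induction k generalizing x with
  | zero => simp [tprod]
  | succ k ih =>
      rw [pow_succ, MulAut.mul_apply, ih, twist_apply, map_mul, map_mul, map_inv, tprod,
        pow_succ, MulAut.mul_apply]
      group

theorem tprod_twist (h : G) (α : MulAut G) (x : G) (k : ℕ) :
    tprod (twist h α) x k * tprod α h k = tprod α (x * h) k := by
  induction k with
  | zero => simp [tprod]
  | succ k ih =>
      rw [tprod, tprod, tprod, ← ih, twist_pow_apply, map_mul]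
      group

theorem Splits.twist {p : ℕ} {α : MulAut G} (hα : Splits p α) (h : G) :
    Splits p (CfsgLib.Hughes.twist h α) := by
  refine ⟨MulEquiv.ext fun x => ?_, fun x => ?_⟩
  · rw [twist_pow_apply, hα.2, hα.1]; simp
  · have := tprod_twist h α x p
    rwa [hα.2, hα.2, mul_one] at this

theorem tprod_add (α : MulAut G) (x : G) (a b : ℕ) :
    tprod α x (a + b) = tprod α x a * (α ^ a) (tprod α x b) := by
  induction b with
  | zero => simp [tprod]
  | succ b ih =>
      rw [← add_assoc, tprod, ih, tprod, map_mul, pow_add, MulAut.mul_apply]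
      group

theorem Splits.tprod_mul_add_one {p : ℕ} {α : MulAut G} (hα : Splits p α) (x : G) (m : ℕ) :
    tprod α x (1 + p * m) = x := by
  induction m with
  | zero => simp [tprod]
  | succ m ih => rw [mul_add, mul_one, ← add_assoc, tprod_add, ih, hα.2, map_one, mul_one]

theorem tprod_mul_congr (α : MulAut G) {x y : G} {i : ℕ} (h : tprod α x i = tprod α y i) (k : ℕ) :
    tprod α x (i * k) = tprod α y (i * k) := by
  induction k with
  | zero => simp [tprod]
  | succ k ih => rw [mul_add, mul_one, tprod_add, tprod_add, ih, h]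

theorem Splits.tprod_injective {p : ℕ} [Fact p.Prime] {α : MulAut G} (hα : Splits p α) {i : ℕ}
    (hi : ¬ p ∣ i) {x y : G} (h : tprod α x i = tprod α y i) : x = y := by
  have hp : p.Prime := Fact.out
  have hcop : i.Coprime p := (hp.coprime_iff_not_dvd.mpr hi).symm
  obtain ⟨k, hk⟩ := Nat.exists_mul_mod_eq_one_of_coprime hcop hp.one_lt
  have hk' : i * k = 1 + p * (i * k / p) := by
    conv_lhs => rw [← Nat.mod_add_div (i * k) p, hk.2]
  have := tprod_mul_congr α h k
  rwa [hk', hα.tprod_mul_add_one, hα.tprod_mul_add_one] at this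

theorem tprod_mem {α : MulAut G} {S : Subgroup G} (hS : ∀ x ∈ S, α x ∈ S) {x : G} (hx : x ∈ S) :
    ∀ k, (α ^ k) x ∈ S ∧ tprod α x k ∈ S := by
  intro k
  induction k with
  | zero => exact ⟨by simpa using hx, by simp [tprod]⟩
  | succ k ih =>
      refine ⟨?_, mul_mem ih.2 ih.1⟩
      rw [pow_succ', MulAut.mul_apply]
      exact hS _ ih.1

/-- The coprime action lemma: an `α`-invariant subgroup centralizes an `α`-invariant normal
abelian subgroup of coprime order. -/
theorem commute_of_coprime [Finite G] {p : ℕ} [Fact p.Prime] {α : MulAut G} (hα : Splits p α)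
    {V S : Subgroup G} [V.Normal] [IsMulCommutative V] (hVα : ∀ x ∈ V, α x ∈ V)
    (hSα : ∀ x ∈ S, α x ∈ S) (hco : (Nat.card S).Coprime (Nat.card V)) :
    ∀ s ∈ S, ∀ v ∈ V, s * v = v * s := by
  classical
  haveI : Fintype S := Fintype.ofFinite S
  letI : CommGroup V := { (inferInstance : Group V) with mul_comm := fun a b => IsMulCommutative.is_comm.comm a b }
  let σ : V → V := fun w => ∏ u : S, MulAut.conjNormal (u : G) w
  have σ_mul : ∀ a b, σ (a * b) = σ a * σ b := fun a b => by
    simp only [σ, map_mul, Finset.prod_mul_distrib]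
  have σ_prod : ∀ (k : ℕ) (g : ℕ → V),
      σ (∏ i ∈ Finset.range k, g i) = ∏ i ∈ Finset.range k, σ (g i) := fun k g =>
    map_prod (⟨⟨σ, by simp [σ]⟩, σ_mul⟩ : V →* V) g _
  intro s hs v hv
  let w : ℕ → V := fun i => ⟨(α ^ i) v, (tprod_mem hVα hv i).1⟩
  let f : S → ℕ → V := fun t i => MulAut.conjNormal (tprod α (t : G) i) (w i)
  have hf : ∀ (t : S) (k : ℕ),
      ((∏ i ∈ Finset.range k, f t i : V) : G) = tprod (twist (t : G) α) v k := by
    intro t k
    induction k with
    | zero => simp [tprod]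
    | succ k ih =>
        rw [Finset.prod_range_succ, Subgroup.coe_mul, ih, tprod, twist_pow_apply]
        simp [f, w]
  have hw : ∀ k : ℕ, ((∏ i ∈ Finset.range k, w i : V) : G) = tprod α v k := by
    intro k
    induction k with
    | zero => simp [tprod]
    | succ k ih => rw [Finset.prod_range_succ, Subgroup.coe_mul, ih, tprod]
  have hp : p.Prime := Fact.out
  obtain ⟨m, hm⟩ : ∃ m, p = m + 1 := ⟨p - 1, by have := hp.one_lt; omega⟩
  have h1 : ∏ i ∈ Finset.range p, ∏ t : S, f t i = 1 := by
    rw [Finset.prod_comm]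
    refine Finset.prod_eq_one fun t _ => Subtype.ext ?_
    rw [hf, (hα.twist (t : G)).2, Subgroup.coe_one]
  have h2 : ∏ i ∈ Finset.range p, w i = 1 := Subtype.ext (by rw [hw, hα.2, Subgroup.coe_one])
  have h3 : ∀ i, i + 1 < p → ∏ t : S, f t (i + 1) = σ (w (i + 1)) := by
    intro i hi
    let τ : S → S := fun t => ⟨tprod α (t : G) (i + 1), (tprod_mem hSα t.2 _).2⟩
    have hτ : Function.Bijective τ := Finite.injective_iff_bijective.mp fun a b hab =>
      Subtype.ext (hα.tprod_injective (Nat.not_dvd_of_pos_of_lt (by omega) hi)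
        (congrArg Subtype.val hab))
    exact hτ.prod_comp (fun u : S => MulAut.conjNormal (u : G) (w (i + 1)))
  have h0 : ∏ t : S, f t 0 = (⟨v, hv⟩ : V) ^ Nat.card S := by
    rw [Finset.prod_congr rfl (fun t _ => (show f t 0 = (⟨v, hv⟩ : V) from by
      apply Subtype.ext; simp [f, w, tprod])), Finset.prod_const, Finset.card_univ,
      Nat.card_eq_fintype_card]
  rw [hm, Finset.prod_range_succ'] at h1 h2
  rw [h0, Finset.prod_congr rfl (fun i hi => h3 i (by rw [hm]; have := Finset.mem_range.mp hi; omega)),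
    ← σ_prod] at h1
  have hw0 : w 0 = ⟨v, hv⟩ := Subtype.ext (by simp [w])
  rw [hw0] at h2
  rw [eq_inv_of_mul_eq_one_left h2] at h1
  have hσinv : σ (⟨v, hv⟩⁻¹) = (σ ⟨v, hv⟩)⁻¹ := by simp only [σ, map_inv, Finset.prod_inv_distrib]
  rw [hσinv, inv_mul_eq_one] at h1
  -- `σ v = v ^ |S|` is fixed by `S`
  have hfix : MulAut.conjNormal (s : G) (σ ⟨v, hv⟩) = σ ⟨v, hv⟩ := by
    simp only [σ, map_prod]
    rw [← Function.Bijective.prod_comp (Group.mulLeft_bijective (⟨s, hs⟩ : S))
      (fun u : S => MulAut.conjNormal (u : G) (⟨v, hv⟩ : V))]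
    refine Finset.prod_congr rfl fun u _ => ?_
    rw [Subgroup.coe_mul, map_mul, MulAut.mul_apply]
  rw [h1, map_pow] at hfix
  have := (powCoprime (hco.symm)).injective hfix
  have e : s * v * s⁻¹ = v := by simpa [MulAut.conjNormal_apply] using congrArg Subtype.val this
  calc s * v = s * v * s⁻¹ * s := by group
    _ = v * s := by rw [e]

/-- Restriction to an invariant subgroup. -/
noncomputable def restrictAut (α : MulAut G) (K : Subgroup G) (hK : K.map α.toMonoidHom = K) :
    MulAut K :=
  (α.subgroupMap K).trans (MulEquiv.subgroupCongr hK)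

theorem restrictAut_apply (α : MulAut G) (K : Subgroup G) (hK : K.map α.toMonoidHom = K) (x : K) :
    K.subtype (restrictAut α K hK x) = α (K.subtype x) := rfl

theorem Splits.restrict {p : ℕ} {α : MulAut G} (hα : Splits p α) (K : Subgroup G)
    (hK : K.map α.toMonoidHom = K) : Splits p (restrictAut α K hK) :=
  Splits.of_injective K.subtype K.subtype_injective (restrictAut_apply α K hK) hα

theorem Splits.quotient {p : ℕ} {α : MulAut G} (hα : Splits p α) (N : Subgroup G) [N.Normal]
    (hN : N.map α.toMonoidHom = N) :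
    Splits p (QuotientGroup.congr N N α hN : MulAut (G ⧸ N)) :=
  Splits.of_surjective (QuotientGroup.mk' N) (QuotientGroup.mk'_surjective N) (fun _ => rfl) hα

theorem apply_mem_of_map_eq {α : MulAut G} {K : Subgroup G} (hK : K.map α.toMonoidHom = K) {x : G}
    (hx : x ∈ K) : α x ∈ K := hK ▸ Subgroup.mem_map_of_mem α.toMonoidHom hx

theorem map_eq_of_characteristic (α : MulAut G) (K : Subgroup G) [K.Characteristic] :
    K.map α.toMonoidHom = K := Subgroup.characteristic_iff_map_eq.mp inferInstance α

/-- Some twist of `α` fixes a given Sylow subgroup. -/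
theorem exists_twist_fix [Finite G] {q : ℕ} [Fact q.Prime] (α : MulAut G) (Q : Sylow q G) :
    ∃ h : G, (Q : Subgroup G).map (twist h α).toMonoidHom = Q := by
  let Q' : Sylow q G := Q.mapSurjective (f := α.toMonoidHom) α.surjective
  obtain ⟨g, hg⟩ := MulAction.exists_smul_eq G Q' Q
  refine ⟨g, ?_⟩
  have h1 : ((g • Q' : Sylow q G) : Subgroup G) = Q := by rw [hg]
  rw [Sylow.coe_subgroup_smul] at h1
  change MulAut.conj g • ((Q : Subgroup G).map α.toMonoidHom) = _ at h1
  conv_rhs => rw [← h1]
  exact (Subgroup.map_map (Q : Subgroup G) (MulAut.conj g).toMonoidHom α.toMonoidHom).symm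

theorem exists_characteristic_abelian [Finite G] [Nontrivial G] [Group.IsSolvable G] :
    ∃ A : Subgroup G, A ≠ ⊥ ∧ A.Characteristic ∧ IsMulCommutative A := by
  classical
  have hex : ∃ n, derivedSeries G n = ⊥ := Group.IsSolvable.solvable
  have hpos : 0 < Nat.find hex := by
    rcases Nat.eq_zero_or_pos (Nat.find hex) with h | h
    · exfalso
      have := Nat.find_spec hex
      rw [h, derivedSeries_zero] at this
      exact top_ne_bot this
    · exact h
  obtain ⟨k, hk⟩ : ∃ k, Nat.find hex = k + 1 := ⟨_, (Nat.succ_pred_eq_of_pos hpos).symm⟩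
  refine ⟨derivedSeries G k, Nat.find_min hex (by omega), inferInstance, ⟨⟨fun a b => ?_⟩⟩⟩
  have h := Nat.find_spec hex
  rw [hk, derivedSeries_succ] at h
  have h' := Subgroup.commutator_mem_commutator a.2 b.2
  rw [h, Subgroup.mem_bot] at h'
  exact Subtype.ext (commutatorElement_eq_one_iff_mul_comm.mp h')

/-- A solvable finite group with a splitting automorphism of prime order is nilpotent. -/
theorem isNilpotent_of_isSolvable {p : ℕ} [Fact p.Prime] (n : ℕ) :
    ∀ (G : Type u) [Group G] [Finite G] [Group.IsSolvable G] (α : MulAut G),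
      Nat.card G = n → Splits p α → Group.IsNilpotent G := by
  induction n using Nat.strong_induction_on with
  | _ n IH =>
  intro G _ _ _ α hn hα
  rcases subsingleton_or_nontrivial G with _ | _
  · infer_instance
  obtain ⟨A, hA, hAc, hAcomm⟩ := exists_characteristic_abelian (G := G)
  haveI := hAc
  haveI := hAcomm
  obtain ⟨r, hr, hrA⟩ := Nat.exists_prime_and_dvd (n := Nat.card A) (by
    intro h; exact hA (Subgroup.card_eq_one.mp h))
  haveI := Fact.mk hr
  let V : Subgroup G :=
    { carrier := {x | x ∈ A ∧ x ^ r = 1}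
      one_mem' := ⟨one_mem _, one_pow _⟩
      mul_mem' := fun {a b} ha hb => ⟨mul_mem ha.1 hb.1, by
        have hc : Commute a b := congrArg Subtype.val
          (hAcomm.is_comm.comm (⟨a, ha.1⟩ : A) ⟨b, hb.1⟩)
        rw [hc.mul_pow, ha.2, hb.2, one_mul]⟩
      inv_mem' := fun {a} ha => ⟨inv_mem ha.1, by rw [inv_pow, ha.2, inv_one]⟩ }
  haveI hVc : V.Characteristic := by
    rw [Subgroup.characteristic_iff_map_le]
    rintro φ _ ⟨x, hx, rfl⟩
    exact ⟨apply_mem_of_map_eq (map_eq_of_characteristic φ A) hx.1, by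
      rw [← map_pow, hx.2, map_one]⟩
  have hVne : V ≠ ⊥ := by
    obtain ⟨x, hx⟩ := exists_prime_orderOf_dvd_card' r hrA
    intro h
    have hxV : (x : G) ∈ V := ⟨x.2, by rw [← hx, ← Subgroup.orderOf_coe]; exact pow_orderOf_eq_one _⟩
    rw [h, Subgroup.mem_bot] at hxV
    have : x = 1 := Subtype.ext hxV
    rw [this, orderOf_one] at hx
    exact hr.one_lt.ne hx
  haveI : IsMulCommutative V := ⟨⟨fun a b => Subtype.ext (congrArg Subtype.val
    (hAcomm.is_comm.comm (⟨a, a.2.1⟩ : A) ⟨b, b.2.1⟩) : _)⟩⟩
  have hVr : IsPGroup r V := fun x => ⟨1, Subtype.ext (by simpa using x.2.2)⟩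
  have hlt : Nat.card (G ⧸ V) < n := by
    have h1 := V.index_mul_card
    rw [← hn, ← h1, Subgroup.index_eq_card]
    exact lt_mul_of_one_lt_right Nat.card_pos ((Subgroup.one_lt_card_iff_ne_bot V).mpr hVne)
  have hQ : Group.IsNilpotent (G ⧸ V) :=
    IH _ hlt (G ⧸ V) _ rfl (hα.quotient V (map_eq_of_characteristic α V))
  refine ((Group.isNilpotent_of_finite_tfae (G := G)).out 0 3 rfl rfl).mpr fun s hs S => ?_
  have hnorm : ((S : Subgroup G).map (QuotientGroup.mk' V)).Normal := by
    have h := ((Group.isNilpotent_of_finite_tfae (G := G ⧸ V)).out 0 3 rfl rfl).mp hQ s hs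
      (S.mapSurjective (QuotientGroup.mk'_surjective V))
    rwa [Sylow.coe_mapSurjective] at h
  have hcomap : ((S : Subgroup G).map (QuotientGroup.mk' V)).comap (QuotientGroup.mk' V)
      = (S : Subgroup G) ⊔ V := by rw [Subgroup.comap_map_eq, QuotientGroup.ker_mk']
  haveI hK : ((S : Subgroup G) ⊔ V).Normal := hcomap ▸ hnorm.comap _
  by_cases hsr : s = r
  · subst hsr
    have hle : V ≤ S := by
      obtain ⟨T, hT⟩ := hVr.exists_le_sylow
      obtain ⟨g, hg⟩ := MulAction.exists_smul_eq G T S
      have h := Subgroup.map_mono (f := (MulAut.conj g).toMonoidHom) hT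
      rw [map_eq_of_characteristic (MulAut.conj g) V] at h
      have h1 : ((g • T : Sylow s G) : Subgroup G) = S := by rw [hg]
      rw [Sylow.coe_subgroup_smul, Subgroup.pointwise_smul_def] at h1
      exact h1 ▸ h
    rwa [sup_eq_left.mpr hle] at hK
  · obtain ⟨g, hg⟩ := exists_twist_fix α S
    haveI := Fact.mk hs.out
    have hco : (Nat.card (S : Subgroup G)).Coprime (Nat.card V) :=
      IsPGroup.coprime_card_of_ne s r hsr _ _ S.isPGroup' hVr
    have hcm := commute_of_coprime (hα.twist g) (S := (S : Subgroup G))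
      (fun x hx => apply_mem_of_map_eq (map_eq_of_characteristic (twist g α) V) hx)
      (fun x hx => apply_mem_of_map_eq hg hx) hco
    refine ⟨fun x hx y => ?_⟩
    have hy : y * x * y⁻¹ ∈ (S : Subgroup G) ⊔ V := hK.conj_mem x (Subgroup.mem_sup_left hx) y
    obtain ⟨a, ha, b, hb, hab⟩ := Subgroup.mem_sup_of_normal_right.mp hy
    obtain ⟨k, hk⟩ := S.isPGroup' ⟨x, hx⟩
    obtain ⟨l, hl⟩ := S.isPGroup' ⟨a, ha⟩
    have hx1 : x ^ (s ^ (k + l)) = 1 := by
      rw [pow_add, pow_mul, show x ^ s ^ k = 1 from congrArg Subtype.val hk, one_pow]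
    have ha1 : a ^ (s ^ (k + l)) = 1 := by
      rw [add_comm k, pow_add, pow_mul, show a ^ s ^ l = 1 from congrArg Subtype.val hl, one_pow]
    have hb1 : b ^ (s ^ (k + l)) = 1 := by
      have h : (y * x * y⁻¹) ^ (s ^ (k + l)) = 1 := by rw [conj_pow, hx1]; group
      rwa [← hab, (show Commute a b from hcm a ha b hb).mul_pow, ha1, one_mul] at h
    have hb2 : b ^ r = 1 := hb.2
    have hb0 : b = 1 := orderOf_eq_one_iff.mp (Nat.eq_one_of_dvd_coprimes
      (((Nat.coprime_primes hs.out hr).mpr hsr).pow_left (k + l))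
      (orderOf_dvd_of_pow_eq_one hb1) (orderOf_dvd_of_pow_eq_one hb2))
    rw [← hab, hb0, mul_one]
    exact ha

end CfsgLib.Hughes
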